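import Mathlib

set_option autoImplicit false

/-!
# S2318 module [A-CHARSUM] (helper82's sheet)

`∑_{θ : A →* ℂˣ} θ a = |A|` if `a = 1`, and `0` otherwise, for a finite group `A` with commutative
multiplication.
-/

namespace Cfsg.Agent.Lib.Helper73.StUniq

open Classical in
theorem sum_hom_apply {A : Type*} [Group A] [Finite A] (hA : ∀ a b : A, a * b = b * a)
    [Fintype (A →* ℂˣ)] (a : A) :
    ∑ θ : A →* ℂˣ, ((θ a : ℂˣ) : ℂ) = if a = 1 then (Nat.card A : ℂ) else 0 := by
  letI : CommGroup A := { (inferInstance : Group A) with mul_comm := hA }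
  haveI : NeZero (Monoid.exponent A) := ⟨Monoid.exponent_ne_zero_of_finite⟩
  haveI : HasEnoughRootsOfUnity ℂ (Monoid.exponent A) := inferInstance
  by_cases ha : a = 1
  · rw [if_pos ha, ha]
    simp only [map_one, Units.val_one, Finset.sum_const, Finset.card_univ, nsmul_eq_mul, mul_one]
    rw [← Nat.card_eq_fintype_card, CommGroup.card_monoidHom_of_hasEnoughRootsOfUnity A ℂ]
  · rw [if_neg ha]
    obtain ⟨φ, hφ⟩ := CommGroup.exists_apply_ne_one_of_hasEnoughRootsOfUnity A ℂ ha
    set s : ℂ := ∑ θ : A →* ℂˣ, ((θ a : ℂˣ) : ℂ) with hs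
    have h1 : ((φ a : ℂˣ) : ℂ) * s = s := by
      rw [hs, Finset.mul_sum]
      refine Fintype.sum_equiv (Equiv.mulLeft φ) _ _ ?_
      intro θ
      simp [MonoidHom.mul_apply]
    have h2 : (((φ a : ℂˣ) : ℂ) - 1) * s = 0 := by rw [sub_mul, h1, one_mul, sub_self]
    rcases mul_eq_zero.mp h2 with h | h
    · exfalso
      apply hφ
      have : ((φ a : ℂˣ) : ℂ) = 1 := sub_eq_zero.mp h
      exact Units.ext this
    · exact h

end Cfsg.Agent.Lib.Helper73.StUniq
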