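import Mathlib
import Cfsg.Agent.Lib.Helper82.StUniq.Defs
import Cfsg.Agent.Lib.Helper23.SLDZMack
import Cfsg.Agent.Lib.Helper78.CharMore
import Cfsg.Agent.Lib.Helper78.FiniteAbelianDual
import Cfsg.Agent.Lib.Helper75.Clifford
import Cfsg.Agent.Lib.Helper77.Linear
import Cfsg.Agent.Lib.Helper79.BrauerN.IndLin
import Cfsg.Agent.Lib.Helper80.CharBasic

set_option autoImplicit false

/-!
# S2318 module [A-RANK1LIN] (helper82's sheet; helper73 hedge)
-/

namespace Cfsg.Agent.Lib.Helper73.StUniq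

open Cfsg
open scoped ComplexConjugate
open Cfsg.Agent.Lib.Helper79.BrauerN (linFun)
open Cfsg.Agent.Lib.Helper82.SLDZ (Compat)
open Cfsg.Agent.Lib.Helper78
open Cfsg.Agent.Lib.Helper23.SLDZMack

universe u

/-- Removing an irreducible constituent of multiplicity one from a character leaves a
character. -/
theorem isCharacter_sub_irr {G : Type u} [Group G] [Fintype G] {Φ : G → ℂ}
    (hΦ : IsCharacter G Φ) (ψ : IrrCharacter G) (h1 : classInner Φ (ψ : G → ℂ) = 1) :
    IsCharacter G (Φ - (ψ : G → ℂ)) := by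
  classical
  obtain ⟨m, hm⟩ := (isCharacter_iff_exists_nat_combination Φ).mp hΦ
  have hcoef : (m ψ : ℂ) = 1 := by
    rw [← h1, hm]
    exact (classInner_nat_combination (fun φ => (m φ : ℂ)) ψ).symm
  rw [isCharacter_iff_exists_nat_combination]
  refine ⟨fun φ => if φ = ψ then 0 else m φ, ?_⟩
  rw [hm, ← Finset.add_sum_erase Finset.univ _ (Finset.mem_univ ψ),
    ← Finset.add_sum_erase Finset.univ (fun φ => ((if φ = ψ then 0 else m φ : ℕ) : ℂ) • (φ : G → ℂ))
      (Finset.mem_univ ψ)]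
  simp only [if_true, Nat.cast_zero, zero_smul, zero_add]
  rw [hcoef, one_smul, add_sub_cancel_left]
  apply Finset.sum_congr rfl
  intro φ hφ
  rw [if_neg (Finset.ne_of_mem_erase hφ)]

/-- A character of degree zero vanishes identically. -/
theorem eq_zero_of_apply_one_eq_zero {G : Type u} [Group G] {χ : G → ℂ}
    (hχ : IsCharacter G χ) (h0 : χ 1 = 0) : χ = 0 := by
  obtain ⟨n, ρ, rfl⟩ := hχ
  have hn : n = 0 := by
    rw [Representation.char_one] at h0
    simpa using h0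
  subst hn
  funext g
  unfold Representation.character
  have : ρ g = 0 := by
    apply LinearMap.ext
    intro v
    apply funext
    intro i
    exact Fin.elim0 i
  rw [this, map_zero]
  rfl

open Classical in
theorem exists_linear_extension {P : Type*} [Group P] [Fintype P] (B X : Subgroup P) (n : P)
    (hXB : X ≤ B) (hnB : n ∉ B)
    (hcov : ∀ g : P, g ∈ B ∨ ∃ b ∈ B, ∃ x ∈ X, g = b * n * x)
    (hXcomm : ∀ x ∈ X, ∀ y ∈ X, x * y = y * x)
    (α : ↥B →* ℂˣ) (hαX : ∀ (x : P) (hx : x ∈ X), α ⟨x, hXB hx⟩ = 1) (hc : Compat α α n)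
    (Λ : P → ℂ) (hΛ : IsIrrCharacter P Λ) (h1 : classInner Λ (indFun B (linFun α)) = 1)
    (horth : ∀ ξ : ↥X →* ℂˣ, ξ ≠ 1 →
      ∑ x : ↥X, (indFun B (linFun α) (x : P) - Λ (x : P)) * conj (linFun ξ x) = 0) :
    ∃ μ : P →* ℂˣ, ∀ b : ↥B, μ (b : P) = α b := by
  set Ψ₀ : P → ℂ := indFun B (linFun α) with hΨ₀def
  have hΨ₀ : IsCharacter P Ψ₀ := Cfsg.Agent.Lib.Helper79.BrauerN.isCharacter_indFun_linFun B α
  have hΛc : IsCharacter P Λ := Cfsg.Agent.Lib.Helper80.isCharacter_of_isIrr hΛ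
  have hΛcf : IsClassFunction P Λ := IsCharacter.isClassFunction hΛc
  have hΨ₀cf : IsClassFunction P Ψ₀ := IsCharacter.isClassFunction hΨ₀
  -- `⟨Ψ₀, Λ⟩ = 1`
  have h1' : classInner Ψ₀ Λ = 1 := by
    rw [← classInner_conj_symm, h1, map_one]
  -- `Λ₂ = Ψ₀ - Λ` is a character
  have hΛ₂ : IsCharacter P (Ψ₀ - Λ) := isCharacter_sub_irr hΨ₀ ⟨Λ, hΛ⟩ h1'
  -- the norm of `Ψ₀` is two
  have hnorm : classInner Ψ₀ Ψ₀ = 2 := by
    have hcover : ∀ g : P, ∃ r ∈ ({1, n} : Finset P), ∃ h ∈ B, ∃ k ∈ B, g = h * r * k := by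
      intro g
      rcases hcov g with hg | ⟨b, hb, x, hx, rfl⟩
      · exact ⟨1, by simp, g, hg, 1, B.one_mem, by simp⟩
      · exact ⟨n, by simp, b, hb, x, hXB hx, rfl⟩
    have hdisj : ∀ r ∈ ({1, n} : Finset P), ∀ r' ∈ ({1, n} : Finset P),
        (∃ h ∈ B, ∃ k ∈ B, r' = h * r * k) → r = r' := by
      intro r hr r' hr' hrel
      rw [Finset.mem_insert, Finset.mem_singleton] at hr hr'
      obtain ⟨h, hh, k, hk, e⟩ := hrel
      rcases hr with hr | hr <;> rcases hr' with hr' | hr'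
      · rw [hr, hr']
      · exfalso
        apply hnB
        rw [hr, hr', mul_one] at e
        rw [e]
        exact B.mul_mem hh hk
      · exfalso
        apply hnB
        rw [hr, hr'] at e
        have : n = h⁻¹ * k⁻¹ := by
          have e' : h⁻¹ * 1 * k⁻¹ = h⁻¹ * (h * n * k) * k⁻¹ := by rw [← e]
          rw [mul_one] at e'
          rw [e']; group
        rw [this]
        exact B.mul_mem (B.inv_mem hh) (B.inv_mem hk)
      · rw [hr, hr']
    rw [hΨ₀def, mackey_count B B α α {1, n} hcover hdisj]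
    have hne : (1 : P) ≠ n := fun h => hnB (h ▸ B.one_mem)
    have hc1 : Compat α α 1 := by
      intro h hh hk
      congr 1
      apply Subtype.ext
      simp
    have : (({1, n} : Finset P).filter (fun r => Compat α α r)) = {1, n} := by
      apply Finset.filter_true_of_mem
      intro r hr
      rw [Finset.mem_insert, Finset.mem_singleton] at hr
      rcases hr with hr | hr
      · rw [hr]; exact hc1
      · rw [hr]; exact hc
    rw [this, Finset.card_pair hne]
    norm_num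
  -- commutative group structure on `X`
  letI : CommGroup ↥X :=
    { (inferInstance : Group ↥X) with
      mul_comm := fun x y => Subtype.ext (hXcomm x x.2 y y.2) }
  haveI : Fintype (↥X →* ℂˣ) := Fintype.ofFinite _
  -- `f = Λ₂` on `X`
  set f : ↥X → ℂ := fun x => Ψ₀ (x : P) - Λ (x : P) with hfdef
  have hX0 : (Fintype.card ↥X : ℂ) ≠ 0 := by exact_mod_cast Fintype.card_ne_zero
  -- Fourier inversion at `1`
  have hf1 : f 1 * (Fintype.card ↥X : ℂ) = ∑ x : ↥X, f x := by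
    have hinv := dual_inversion f 1
    rw [Finset.sum_eq_single (1 : ↥X →* ℂˣ)] at hinv
    · rw [hinv]
      simp only [MonoidHom.one_apply, Units.val_one, map_one, mul_one]
      field_simp
    · intro ξ _ hξ
      have := horth ξ hξ
      have h2 : ∑ y' : ↥X, f y' * conj ((ξ y' : ℂˣ) : ℂ) = 0 := this
      rw [h2, mul_zero, zero_mul]
    · intro h; exact absurd (Finset.mem_univ _) h
  -- `∑_X Ψ₀ = |X| k₁`, `k₁ ≤ 2`
  obtain ⟨k₁, hk₁le, hk₁⟩ : ∃ k₁ : ℕ, k₁ ≤ 2 ∧
      ∑ x : ↥X, Ψ₀ (x : P) = (Fintype.card ↥X : ℂ) * k₁ := by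
    have hcover : ∀ g : P, ∃ r ∈ ({1, n} : Finset P), ∃ h ∈ B, ∃ k ∈ X, g = h * r * k := by
      intro g
      rcases hcov g with hg | ⟨b, hb, x, hx, rfl⟩
      · exact ⟨1, by simp, g, hg, 1, X.one_mem, by simp⟩
      · exact ⟨n, by simp, b, hb, x, hx, rfl⟩
    obtain ⟨m, hm, hmeq⟩ := mackey_le B X α (1 : ↥X →* ℂˣ) {1, n} hcover
    refine ⟨m, ?_, ?_⟩
    · refine hm.trans ((Finset.card_filter_le _ _).trans ?_)
      exact Finset.card_le_two
    · rw [Cfsg.Agent.Lib.Helper75.frobenius_reciprocity' X (linFun (1 : ↥X →* ℂˣ)) hΨ₀cf] at hmeq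
      unfold classInner at hmeq
      rw [Nat.card_eq_fintype_card] at hmeq
      have : ∑ g : ↥X, (fun h : ↥X => Ψ₀ (h : P)) g * conj (linFun (1 : ↥X →* ℂˣ) g) =
          ∑ x : ↥X, Ψ₀ (x : P) := by
        apply Finset.sum_congr rfl
        intro x _
        simp [linFun]
      rw [this] at hmeq
      rw [← hmeq]
      field_simp
  -- `∑_X Λ = |X| k₂`, `k₂ ≥ 1`
  obtain ⟨k₂, hk₂ge, hk₂⟩ : ∃ k₂ : ℕ, 1 ≤ k₂ ∧
      ∑ x : ↥X, Λ (x : P) = (Fintype.card ↥X : ℂ) * k₂ := by
    -- `Λ|_B - α` is a character of `B`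
    have hres : IsCharacter ↥B (fun b : ↥B => Λ (b : P)) :=
      Cfsg.Agent.Lib.Helper80.isCharacter_restrict B hΛc
    have hα1 : classInner (fun b : ↥B => Λ (b : P)) (linFun α) = 1 := by
      rw [← Cfsg.Agent.Lib.Helper75.frobenius_reciprocity' B (linFun α) hΛcf]
      exact h1
    have hρ : IsCharacter ↥B ((fun b : ↥B => Λ (b : P)) - linFun α) :=
      isCharacter_sub_irr hres ⟨linFun α, Cfsg.Agent.Lib.Helper79.BrauerN.isIrrCharacter_linFun α⟩ hα1
    -- restrict to `X`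
    have hρX : IsCharacter ↥X (fun x : ↥X =>
        ((fun b : ↥B => Λ (b : P)) - linFun α) (Subgroup.inclusion hXB x)) :=
      Cfsg.Agent.Lib.Helper80.isCharacter_comp (Subgroup.inclusion hXB) hρ
    obtain ⟨k, hk⟩ := IsCharacter.exists_nat_classInner hρX
      ⟨linFun (1 : ↥X →* ℂˣ), Cfsg.Agent.Lib.Helper79.BrauerN.isIrrCharacter_linFun _⟩
    refine ⟨k + 1, by omega, ?_⟩
    unfold classInner at hk
    rw [Nat.card_eq_fintype_card] at hk
    have hsum : ∑ g : ↥X, (fun x : ↥X =>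
        ((fun b : ↥B => Λ (b : P)) - linFun α) (Subgroup.inclusion hXB x)) g *
          conj (linFun (1 : ↥X →* ℂˣ) g) = ∑ x : ↥X, Λ (x : P) - (Fintype.card ↥X : ℂ) := by
      have : ∀ x : ↥X, (fun x : ↥X =>
          ((fun b : ↥B => Λ (b : P)) - linFun α) (Subgroup.inclusion hXB x)) x *
            conj (linFun (1 : ↥X →* ℂˣ) x) = Λ (x : P) - 1 := by
        intro x
        have hα' : α (Subgroup.inclusion hXB x) = 1 := hαX (x : P) x.2
        simp [linFun, hα']
      rw [Finset.sum_congr rfl (fun x _ => this x), Finset.sum_sub_distrib]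
      simp
    rw [hsum] at hk
    have : ∑ x : ↥X, Λ (x : P) - (Fintype.card ↥X : ℂ) = (Fintype.card ↥X : ℂ) * k := by
      rw [← hk]; field_simp
    push_cast
    linear_combination this
  -- degree of `Λ₂`
  obtain ⟨d, hd⟩ := Cfsg.Agent.Lib.Helper80.char_one_eq_natCast hΛ₂
  have hf1' : f 1 = (d : ℂ) := by
    have : f 1 = (Ψ₀ - Λ) 1 := rfl
    rw [this, hd]
  have hsumf : ∑ x : ↥X, f x = (Fintype.card ↥X : ℂ) * k₁ - (Fintype.card ↥X : ℂ) * k₂ := by
    rw [hfdef, Finset.sum_sub_distrib, hk₁, hk₂]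
  have hdk : (d : ℂ) + k₂ = k₁ := by
    rw [hf1', hsumf] at hf1
    have : (Fintype.card ↥X : ℂ) * ((d : ℂ) + k₂ - k₁) = 0 := by linear_combination hf1
    rcases mul_eq_zero.mp this with h | h
    · exact absurd h hX0
    · linear_combination h
  have hdk' : d + k₂ = k₁ := by exact_mod_cast hdk
  have hd1 : d ≤ 1 := by omega
  have hd0 : d ≠ 0 := by
    intro h0
    rw [h0, Nat.cast_zero] at hd
    have hz := eq_zero_of_apply_one_eq_zero hΛ₂ hd
    have : Ψ₀ = Λ := sub_eq_zero.mp hz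
    rw [this, classInner_irr_self hΛ] at hnorm
    norm_num at hnorm
  have hdeg : (Ψ₀ - Λ) 1 = 1 := by
    rw [hd]
    have : d = 1 := by omega
    rw [this, Nat.cast_one]
  obtain ⟨μ, hμ⟩ := Cfsg.Agent.Lib.Helper77.exists_monoidHom_of_degree_one hΛ₂ hdeg
  refine ⟨μ, ?_⟩
  -- `⟨μ|_B, α⟩ = 1`
  have hμB : classInner (fun b : ↥B => (Ψ₀ - Λ) (b : P)) (linFun α) = 1 := by
    rw [← Cfsg.Agent.Lib.Helper75.frobenius_reciprocity' B (linFun α)
      (IsCharacter.isClassFunction hΛ₂)]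
    have : classInner (Ψ₀ - Λ) Ψ₀ = classInner Ψ₀ Ψ₀ - classInner Λ Ψ₀ := by
      rw [sub_eq_add_neg, classInner_add_left]
      have : (-Λ : P → ℂ) = (-1 : ℂ) • Λ := by simp
      rw [this, classInner_smul_left]
      ring
    rw [this, hnorm, h1]
    norm_num
  have hμfun : (fun b : ↥B => (Ψ₀ - Λ) (b : P)) = linFun (μ.comp B.subtype) := by
    funext b
    rw [hμ]
    rfl
  rw [hμfun] at hμB
  have hirr := classInner_irr
    (Cfsg.Agent.Lib.Helper79.BrauerN.isIrrCharacter_linFun (μ.comp B.subtype))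
    (Cfsg.Agent.Lib.Helper79.BrauerN.isIrrCharacter_linFun α)
  rw [hμB] at hirr
  have heq : linFun (μ.comp B.subtype) = linFun α := by
    by_contra hne
    rw [if_neg hne] at hirr
    exact one_ne_zero hirr
  intro b
  have := congrFun heq b
  exact Units.ext this

end Cfsg.Agent.Lib.Helper73.StUniq
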